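/- Functorial injective embeddings in Grothendieck abelian categories; presheaf categories. -/
import Mathlib
set_option autoImplicit false
universe w v u

open CategoryTheory CategoryTheory.Limits MorphismProperty ZeroObject

namespace FunctInj8

theorem exists_functorial_injective_embedding (A : Type u) [Category.{v} A] [Abelian A]
    [IsGrothendieckAbelian.{v} A] :
    ∃ (J : A ⥤ A) (j : 𝟭 _ ⟶ J), ∀ F : A, Injective (J.obj F) ∧ Mono (j.app F) := by
  classical
  let d := functorialFactorizationData (monomorphisms A) (monomorphisms A).rlp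
  let g : A ⥤ Arrow A :=
    { obj := fun X => Arrow.mk (0 : X ⟶ (0 : A))
      map := fun f => Arrow.homMk f (𝟙 (0 : A)) ((isZero_zero A).eq_of_tgt _ _) }
  refine ⟨g ⋙ d.Z, Functor.whiskerLeft g d.i, fun F => ⟨?_, d.hi (g.obj F)⟩⟩
  have hp := d.hp (g.obj F)
  rw [injective_iff_rlp_monomorphisms_zero]
  have h0 : d.p.app (g.obj F) = 0 := (isZero_zero A).eq_of_tgt _ _
  rw [h0] at hp
  exact hp

theorem isGrothendieckAbelian_presheaf (C : Type u) [SmallCategory C] :
    IsGrothendieckAbelian.{u} (Cᵒᵖ ⥤ AddCommGrpCat.{u}) := by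
  haveI : IsGrothendieckAbelian.{u} (Sheaf (⊥ : GrothendieckTopology C) AddCommGrpCat.{u}) :=
    Sheaf.isGrothendieckAbelian_of_essentiallySmall _ _
  exact IsGrothendieckAbelian.of_equivalence (sheafBotEquivalence AddCommGrpCat.{u})

theorem isGrothendieckAbelian_presheafOfModules {C : Type u} [SmallCategory C] (O : Cᵒᵖ ⥤ RingCat.{u}) :
    IsGrothendieckAbelian.{u} (PresheafOfModules.{u} O) where
  ab5OfSize := by
    haveI := isGrothendieckAbelian_presheaf C
    exact ⟨fun J _ _ => HasExactColimitsOfShape.domain_of_functor J (PresheafOfModules.toPresheaf O)⟩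
  hasSeparator :=
    ⟨⟨_, (isSeparator_sigma (fun X : C => (PresheafOfModules.free O).obj (yoneda.obj X))).2
      (PresheafOfModules.freeYoneda.isSeparating O)⟩⟩

end FunctInj8
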